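import Cfsg.Agent.TAB.Co.Fin

/-!
# The table of `Co3` : numerical data and certificates (helper88, TAB)

The types are 0:1a 1:2a 2:2b 3:3a 4:3b 5:3c 6:4a 7:4b 8:5a 9:5b 10:6a 11:6b 12:6c 13:6d 14:6e 15:7a 16:8a 17:8b 18:8c 19:9a
20:9b 21:10a 22:10b 23:11ab 24:12a 25:12b 26:12c 27:14a 28:15a 29:15b 30:18a 31:20ab 32:21a 33:22ab 34:23ab
35:24a 36:24b 37:30a.
-/

set_option autoImplicit false
set_option maxRecDepth 100000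

namespace Cfsg.Agent.TAB.Co3

open Cfsg Cfsg.Agent.TAB.Eng Cfsg.Agent.TAB.Use Cfsg.Agent.TAB.Co Cfsg.Agent.TAB.Sm2

/-- the types -/
def D : Dat where
n := 38
N := 495766656000
ordL := [1, 2, 2, 3, 3, 3, 4, 4, 5, 5, 6, 6, 6, 6, 6, 7, 8, 8, 8, 9, 9, 10, 10, 11, 12, 12, 12, 14, 15, 15, 18, 20, 21, 22, 23, 24, 24, 30]
cntL := [1, 170775, 2608200, 1416800, 17001600, 109296000, 21517650, 322764750, 330511104, 1652555520, 114760800, 382536000, 2295216000, 4590432000,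
    6885648000, 11803968000, 2582118000, 2582118000, 15492708000, 3060288000, 6120576000, 8262777600, 24788332800, 45069696000, 3442824000,
    10328472000, 13771296000, 35411904000, 16525555200, 33051110400, 27542592000, 49576665600, 23607936000, 45069696000, 43110144000, 20656944000,
    20656944000, 16525555200]
pwL := [[],
[(1, 1)],
[(1, 2)],
[(1, 3)],
[(1, 4)],
[(1, 5)],
[(1, 6), (2, 1)],
[(1, 7), (2, 1)],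
[(1, 8)],
[(1, 9)],
[(1, 10), (2, 3), (3, 1)],
[(1, 11), (2, 3), (3, 1)],
[(1, 12), (2, 4), (3, 1)],
[(1, 13), (2, 4), (3, 2)],
[(1, 14), (2, 5), (3, 2)],
[(1, 15)],
[(1, 16), (2, 7), (4, 1)],
[(1, 17), (2, 7), (4, 1)],
[(1, 18), (2, 7), (4, 1)],
[(1, 19), (3, 3)],
[(1, 20), (3, 3)],
[(1, 21), (2, 8), (5, 1)],
[(1, 22), (2, 9), (5, 2)],
[(1, 23)],
[(1, 24), (2, 10), (3, 6), (4, 3), (6, 1)],
[(1, 25), (2, 10), (3, 7), (4, 3), (6, 1)],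
[(1, 26), (2, 12), (3, 6), (4, 4), (6, 1)],
[(1, 27), (2, 15), (7, 1)],
[(1, 28), (3, 8), (5, 3)],
[(1, 29), (3, 9), (5, 4)],
[(1, 30), (2, 19), (3, 11), (6, 3), (9, 1)],
[(1, 31), (2, 21), (4, 8), (5, 6), (10, 1)],
[(1, 32), (3, 15), (7, 5)],
[(1, 33), (2, 23), (11, 2)],
[(1, 34)],
[(1, 35), (2, 25), (3, 17), (4, 10), (6, 7), (8, 3), (12, 1)],
[(1, 36), (2, 25), (3, 16), (4, 10), (6, 7), (8, 3), (12, 1)],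
[(1, 37), (2, 28), (3, 21), (5, 10), (6, 8), (10, 3), (15, 1)]]

/-- the values of the key -/
def valL : List ℤ := [552552, 72072, 24000, 12012, 30030, 0, 32000, 16016, 2002, 12012, 12012, 0, 6006, 6000, 0, 6006, 12000, 4000, 4004, 0, 6006,
    2002, 4000, 2002, 8000, 4004, 2000, 2002, 2002, 0, 0, 2000, 0, 2000, 0, 4000, 0, 2002]

/-- the seeds : the characters of degrees 23 and 552 -/
def seeds : List (List ℤ) := [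
[23, 7, -1, -4, 5, -1, -5, 3, -2, 3, 4, -2, 1, -1, -1, 2, -3, 1, 1, -1, 2, 2, -1, 1, -2, 0, 1, 0, 1, 0, 1, 0, -1, -1, 0, -2, 0, -1],
[552, 72, 0, 12, 30, 0, 0, 16, 2, 12, 12, 0, 6, 0, 0, 6, 0, 0, 4, 0, 6, 2, 0, 2, 0, 4, 0, 2, 2, 0, 0, 0, 0, 0, 0, 0, 0, 2]]

/-- the rational irreducible characters -/
def A : List (List ℤ) := [
[1, 1, 1, 1, 1, 1, 1, 1, 1, 1, 1, 1, 1, 1, 1, 1, 1, 1, 1, 1, 1, 1, 1, 1, 1, 1, 1, 1, 1, 1, 1, 1, 1, 1, 1, 1, 1, 1],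
[23, 7, -1, -4, 5, -1, -5, 3, -2, 3, 4, -2, 1, -1, -1, 2, -3, 1, 1, -1, 2, 2, -1, 1, -2, 0, 1, 0, 1, 0, 1, 0, -1, -1, 0, -2, 0, -1],
[253, 29, -11, 10, 10, 1, -11, 5, 3, 3, 2, 2, 2, -2, 1, 1, -3, -3, 1, 1, 1, -1, -1, 0, -2, 2, -2, 1, 0, 0, -1, -1, 1, 0, 0, 0, 0, 2],
[253, 13, -11, 10, 10, 1, 9, 1, 3, 3, 10, 4, -2, -2, 1, 1, 3, -1, -1, 1, 1, 3, -1, 0, 0, -2, 0, -1, 0, 0, 1, -1, 1, 0, 0, 2, 0, 0],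
[275, 35, 11, 5, 14, -1, 15, 7, 0, 5, 5, -1, 2, 2, -1, 2, 5, 1, 1, -1, 2, 0, 1, 0, 3, 1, 0, 0, 0, -1, -1, 0, -1, 0, -1, 1, -1, 0],
[1771, -21, 11, -11, 16, 7, -5, -5, -4, 1, 21, -3, 0, 2, -1, 0, -1, -1, -1, -2, -2, 4, 1, 0, 1, 1, -2, 0, -1, 1, 0, 0, 0, 0, 0, -1, -1, 1],
[2024, 104, 0, -1, 26, 8, -24, 8, -1, 4, -1, 5, 2, 0, 0, 1, -4, 4, 0, -1, -1, -1, 0, 0, -3, -1, 0, -1, -1, 1, -1, 1, 1, 0, 0, 1, -1, -1],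
[4025, 105, 1, -25, 29, -7, -35, 5, 0, 5, 15, -3, -3, 1, 1, 0, -5, -1, -1, 2, 2, 0, 1, -1, 1, -1, 1, 0, 0, -1, 0, 0, 0, 1, 0, -1, 1, 0],
[5544, 168, 0, -45, 36, 0, 40, 8, -6, 4, 3, -3, 0, 0, 0, 0, 4, -4, 0, 0, 0, -2, 0, 0, 1, -1, -2, 0, 0, 1, 0, 0, 0, 0, 1, -1, 1, -2],
[7084, -84, 44, 10, 19, -14, -4, -4, 9, -1, 18, 6, 3, -1, 2, 0, 0, 0, 0, 4, -2, 1, -1, 0, 2, 2, -1, 0, 0, -1, 0, 1, 0, 0, 0, 0, 0, -2],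
[8855, 231, 55, -1, 35, -7, 19, 11, 5, 0, -9, -3, 3, 1, 1, 0, 1, 5, 1, 2, -4, 1, 0, 0, 1, -1, 1, 0, -1, 0, 0, -1, 0, 0, 0, -1, 1, 1],
[23000, 280, 120, 50, 5, 8, 40, 8, 0, 0, 10, 10, 1, 3, 0, -2, 0, 0, 0, -1, 2, 0, 0, -1, -2, 2, 1, 0, 0, 0, 1, 0, 1, -1, 0, 0, 0, 0],
[26082, -126, -54, 81, 0, 0, -6, 10, 7, -3, 9, 9, 0, 0, 0, 0, 2, 2, -2, 0, 0, -1, 1, 1, -3, 1, 0, 0, 1, 0, 0, -1, 0, 1, 0, -1, -1, -1],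
[31625, 265, -55, 35, 35, -1, -55, 9, 0, 0, -5, -5, -5, -1, -1, -1, 1, 1, 1, -1, -1, 0, 0, 0, -1, 3, -1, -1, 0, 0, 1, 0, -1, 0, 0, 1, 1, 0],
[31625, 505, -55, 35, 35, -1, -35, 5, 0, 0, -5, 1, 7, -1, -1, -1, -1, -5, -1, -1, -1, 0, 0, 0, 1, -1, 1, 1, 0, 0, 1, 0, -1, 0, 0, 1, -1, 0],
[31625, -55, -55, 35, 35, -1, 25, -7, 0, 0, 35, -1, -1, -1, -1, -1, 1, 1, 1, -1, -1, 0, 0, 0, -5, -1, 1, 1, 0, 0, -1, 0, -1, 0, 0, 1, 1, 0],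
[31878, 294, -66, 45, 45, 0, 46, -2, 3, 3, -3, -3, -3, -3, 0, 0, 2, 2, -2, 0, 0, -1, -1, 0, 1, 1, 1, 0, 0, 0, 0, 1, 0, 0, 0, -1, -1, 2],
[40250, -70, 10, -115, -25, 14, 10, 10, 0, 0, 5, -7, -1, 1, -2, 0, -2, -2, -2, 5, -1, 0, 0, 1, 1, 1, 1, 0, 0, 0, -1, 0, 0, -1, 0, 1, 1, 0],
[57960, 168, 120, 126, 45, 0, -40, -8, 10, 0, 6, 6, -3, 3, 0, 0, 0, 0, 0, 0, 0, -2, 0, 1, 2, -2, -1, 0, 1, 0, 0, 0, 0, -1, 0, 0, 0, 1],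
[63250, 210, -110, -65, -20, 22, -30, 2, 0, 0, 15, 3, 0, -2, -2, -2, 2, 2, 2, 4, 1, 0, 0, 0, 3, -1, 0, 0, 0, 0, 0, 0, 1, 0, 0, -1, -1, 0],
[73600, 0, 144, 160, 16, 13, 0, 0, 0, -5, 0, 0, 0, 0, -3, 2, 0, 0, 0, 4, 1, 0, -1, -1, 0, 0, 0, 0, 0, 1, 0, 0, -1, 1, 0, 0, 0, 0],
[80960, -448, 0, 176, 50, 8, 0, 0, 10, 0, -16, -16, 2, 0, 0, -2, 0, 0, 0, -1, 2, 2, 0, 0, 0, 0, 0, 0, 1, 0, -1, 0, 1, 0, 0, 0, 0, -1],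
[91125, 405, 45, 0, 0, 27, 45, -3, 0, 0, 0, 0, 0, 0, 3, -1, -3, -3, 1, 0, 0, 0, 0, 1, 0, 0, 0, -1, 0, 0, 0, 0, -1, 1, -1, 0, 0, 0],
[93312, 0, -144, 0, 0, 27, 0, 0, 12, -3, 0, 0, 0, 0, 3, 2, 0, 0, 0, 0, 0, 0, 1, -1, 0, 0, 0, 0, 0, 0, 0, 0, -1, -1, 1, 0, 0, 0],
[129536, -512, 0, -64, 44, 8, 0, 0, -14, -4, 16, -8, 4, 0, 0, 1, 0, 0, 0, -1, -1, -2, 0, 0, 0, 0, 0, -1, 1, -1, 1, 0, 1, 0, 0, 0, 0, 1],
[129536, 512, 0, -64, 44, 8, 0, 0, -14, -4, -16, 8, -4, 0, 0, 1, 0, 0, 0, -1, -1, 2, 0, 0, 0, 0, 0, 1, 1, -1, -1, 0, 1, 0, 0, 0, 0, -1],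
[177100, 140, 44, -20, -29, -14, -20, 12, 0, -5, 20, -4, -1, -1, 2, 0, 0, 0, 0, -5, 1, 0, -1, 0, 4, 0, 1, 0, 0, 1, -1, 0, 0, 0, 0, 0, 0, 0],
[184437, 405, -99, 0, 0, -27, 45, -3, 12, -3, 0, 0, 0, 0, -3, 1, -3, -3, 1, 0, 0, 0, 1, 0, 0, 0, 0, -1, 0, 0, 0, 0, 1, 0, 0, 0, 0, 0],
[221375, 735, 55, -160, -25, -7, -25, -9, 0, 0, 0, -12, 3, 1, 1, 0, 3, 3, -1, 2, 2, 0, 0, 0, -4, 0, -1, 0, 0, 0, 0, 0, 0, 0, 0, 0, 0, 0],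
[226688, 0, -176, 320, -40, -7, 0, 0, -12, 3, 0, 0, 0, 4, 1, 0, 0, 0, 0, 2, -1, 0, -1, 0, 0, 0, 0, 0, 0, 0, 0, 0, 0, 0, 0, 0, 0, 0],
[246400, 0, 176, 160, -56, 7, 0, 0, 0, 5, 0, 0, 0, -4, -1, 0, 0, 0, 0, -2, -2, 0, 1, 0, 0, 0, 0, 0, 0, -1, 0, 0, 0, 0, 1, 0, 0, 0],
[249480, -504, 0, -81, 0, 0, -24, 8, 5, 0, -9, 9, 0, 0, 0, 0, 4, -4, 0, 0, 0, 1, 0, 0, -3, -1, 0, 0, -1, 0, 0, 1, 0, 0, -1, -1, 1, 1],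
[253000, -440, 0, -125, 10, -8, 40, 8, 0, 0, -5, 1, -2, 0, 0, -1, -4, 4, 0, 1, 1, 0, 0, 0, 1, -1, -2, 1, 0, 0, 1, 0, -1, 0, 0, 1, -1, 0],
[255024, -336, 0, -126, 36, 0, -16, -16, -1, 4, -6, 6, 0, 0, 0, 0, 0, 0, 0, 0, 0, -1, 0, 0, 2, 2, 2, 0, -1, 1, 0, -1, 0, 0, 0, 0, 0, -1]]

/-- the sums of two conjugate characters -/
def B : List (List ℤ) := [
[1792, 0, 32, 64, -8, -14, 0, 0, -8, 2, 0, 0, 0, -4, 2, 0, 0, 0, 0, 4, -2, 0, 2, -1, 0, 0, 0, 0, 4, 2, 0, 0, 0, -1, -2, 0, 0, 0],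
[7040, -128, 0, -88, 20, -16, 0, 0, -10, 0, -8, 16, 4, 0, 0, -2, 0, 0, 0, 2, 2, 2, 0, 0, 0, 0, 0, -2, 2, 0, -2, 0, -2, 0, 2, 0, 0, 2],
[19250, 210, -110, 80, -10, 14, 10, -6, 0, 0, 0, 12, 6, -2, -2, 0, -2, 6, -2, -4, 2, 0, 0, 0, 4, 0, -2, 0, 0, 0, 0, 0, 0, 0, -1, 0, 4, 0],
[41216, 0, -32, -256, -40, 14, 0, 0, 16, 6, 0, 0, 0, 4, -2, 0, 0, 0, 0, -4, -4, 0, -2, -1, 0, 0, 0, 0, 4, 0, 0, 0, 0, 1, 0, 0, 0, 0]]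

/-- the primes and the sections -/
def PL : List (ℕ × ℕ × List ℕ) := [(2, 10, [0, 3, 4, 5, 8, 9, 15, 19, 23, 28]),
  (3, 7, [0, 1, 2, 6, 7, 8, 9, 15, 16, 17, 21]),
  (5, 3, [0, 1, 2, 3, 4, 6, 10]),
  (7, 1, [0, 1, 5]),
  (11, 1, [0, 2]),
  (23, 1, [0])]

/-- the certificates -/
def CL : List (ℕ × ℕ × List Cert) := [
  (2, 10, [
⟨0, [.one, .gen 0 1 0, .mul 0 0, .mul 1 0, .mul 2 0, .gen 1 1 0, .mul 4 0, .lin [(721, 6), (248, 5), (846, 4), (264, 3), (993, 2), (652, 1), (372,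
      0)], .lin [(1023, 2), (1, 1)], .lin [(449, 8), (747, 7), (63, 6), (789, 5)], .lin [(259, 9), (1022, 8), (767, 7)], .lin [(771, 10), (257, 9),
      (767, 5)], .lin [(257, 11), (767, 10)], .lin [(1, 12)]], [(7, 1), (5, 4), (6, 4), (2, 4), (3, 16), (4, 32), (0, 64)]⟩,
⟨3, [.one, .gen 0 1 0, .mul 0 0, .gen 0 3 0, .mul 2 0, .mul 1 1, .mul 2 1, .gen 0 1 1, .lin [(638, 7), (483, 6), (1010, 5), (512, 4), (1010, 2), (569,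
      1)], .lin [(433, 8), (748, 7), (827, 5), (827, 4), (591, 1)], .lin [(514, 9), (1, 8), (854, 6), (683, 5)], .lin [(679, 10), (908, 9), (568, 7),
      (569, 5)], .lin [(1, 11), (854, 10), (683, 8)], .lin [(2, 12), (1, 11)], .lin [(1, 13)]], [(5, 1), (6, 2), (2, 2), (3, 8), (4, 4), (0, 4), (1,
      32)]⟩,
⟨4, [.one, .gen 0 1 0, .mul 0 0, .gen 1 1 0, .lin [(87, 3), (937, 1), (684, 0)], .lin [(751, 1)], .lin [(1, 5), (1, 4)], .lin [(1, 6)]], [(2, 1), (3,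
      2), (0, 2), (1, 8)]⟩,
⟨5, [.one, .gen 0 3 0, .lin [(221, 1), (213, 0)], .lin [(1, 2)]], [(0, 1), (1, 8)]⟩,
⟨8, [.one, .gen 0 1 0, .gen 1 1 0, .lin [(2, 2), (511, 0)], .lin [(2, 3), (1, 2)], .lin [(1, 4)]], [(0, 1), (1, 4), (2, 2)]⟩,
⟨9, [.one, .gen 0 1 0, .lin [(771, 1), (767, 0)], .lin [(1, 2)]], [(0, 1), (1, 4)]⟩,
⟨15, [.one, .gen 0 1 0, .lin [(2, 1), (511, 0)], .lin [(1, 2)]], [(0, 1), (1, 2)]⟩,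
⟨19, [.one, .gen 0 1 0, .lin [(1, 1), (1, 0)], .lin [(1, 2)]], [(0, 1), (1, 2)]⟩,
⟨23, [.one, .gen 0 1 0, .lin [(513, 1), (511, 0)], .lin [(1, 2)]], [(0, 1), (1, 2)]⟩,
⟨28, [.one, .gen 0 1 0, .lin [(513, 1), (511, 0)], .lin [(1, 2)]], [(0, 1), (1, 2)]⟩]),
  (3, 7, [
⟨0, [.one, .gen 0 1 0, .mul 0 0, .mul 1 0, .gen 0 1 1, .lin [(1096, 4), (1641, 3), (1092, 2), (547, 1)], .lin [(2186, 5), (1093, 4), (1094, 3)], .lin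
      [(1, 6), (1, 5)], .lin [(1952, 7), (1943, 3)], .lin [(1, 8)]], [(3, 1), (4, 9), (5, 3), (2, 9), (0, 81)]⟩,
⟨1, [.one, .gen 0 1 0, .mul 0 0, .mul 1 0, .gen 1 1 0, .lin [(1661, 4), (264, 3), (87, 2), (175, 1)], .lin [(2, 5), (1091, 4), (1094, 3)], .lin [(2,
      6), (2185, 5), (1094, 2)], .lin [(2186, 7), (1, 6)], .lin [(1, 8)]], [(4, 1), (1, 3), (3, 3), (0, 9), (2, 81)]⟩,
⟨2, [.one, .gen 0 2 0, .mul 0 0, .lin [(1079, 2), (937, 1), (2045, 0)], .lin [(1367, 3), (1367, 2)], .lin [(1, 4)]], [(2, 1), (0, 3), (1, 27)]⟩,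
⟨6, [.one, .gen 0 1 0, .mul 0 0, .lin [(1463, 2), (1826, 1), (1094, 0)], .lin [(5, 3), (1, 2)], .lin [(1, 4)]], [(0, 1), (1, 3), (2, 9)]⟩,
⟨7, [.one, .gen 0 1 0, .lin [(3, 1), (1457, 0)], .lin [(1, 2)]], [(0, 1), (1, 3)]⟩,
⟨8, [.one, .gen 0 1 0, .lin [(2, 1), (1, 0)], .lin [(1, 2)]], [(0, 1), (1, 3)]⟩,
⟨9, [.one, .gen 0 1 0, .lin [(3, 1), (1457, 0)], .lin [(1, 2)]], [(0, 1), (1, 3)]⟩,
⟨15, [.one, .gen 0 1 0, .lin [(1460, 1), (1457, 0)], .lin [(1, 2)]], [(0, 1), (1, 3)]⟩,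
⟨16, [.one, .gen 0 1 0, .lin [(3, 1), (1, 0)], .lin [(1, 2)]], [(0, 1), (1, 3)]⟩,
⟨17, [.one, .gen 0 1 0, .lin [(730, 1), (1457, 0)], .lin [(1, 2)]], [(0, 1), (1, 3)]⟩,
⟨21, [.one, .gen 0 1 0, .lin [(1460, 1), (1457, 0)], .lin [(1, 2)]], [(0, 1), (1, 3)]⟩]),
  (5, 3, [
⟨0, [.one, .gen 0 1 0, .lin [(93, 1), (94, 0)], .lin [(1, 2)]], [(2, 1), (0, 5)]⟩,
⟨1, [.one, .gen 0 1 0, .lin [(57, 1), (99, 0)], .lin [(1, 2)]], [(0, 1), (1, 5)]⟩,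
⟨2, [.one, .gen 0 2 0, .lin [(112, 1), (6, 0)], .lin [(1, 2)]], [(0, 1), (1, 5)]⟩,
⟨3, [.one, .gen 0 1 0, .lin [(4, 1), (1, 0)], .lin [(1, 2)]], [(0, 1), (1, 5)]⟩,
⟨4, [.one, .gen 0 1 0, .lin [(5, 1), (99, 0)], .lin [(1, 2)]], [(0, 1), (1, 5)]⟩,
⟨6, [.one, .gen 0 1 0, .lin [(5, 1), (1, 0)], .lin [(1, 2)]], [(0, 1), (1, 5)]⟩,
⟨10, [.one, .gen 0 1 0, .lin [(104, 1), (99, 0)], .lin [(1, 2)]], [(0, 1), (1, 5)]⟩]),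
  (7, 1, [
⟨0, [.one, .lin [(1, 0)]], [(0, 1)]⟩,
⟨1, [.one, .lin [(1, 0)]], [(0, 1)]⟩,
⟨5, [.one, .lin [(1, 0)]], [(0, 1)]⟩]),
  (11, 1, [
⟨0, [.one, .lin [(1, 0)]], [(0, 1)]⟩,
⟨2, [.one, .lin [(1, 0)]], [(0, 1)]⟩]),
  (23, 1, [
⟨0, [.one, .lin [(1, 0)]], [(0, 1)]⟩])]

theorem okPow : D.okPow = true := by decide +kernel

theorem okSep : D.okSep (nth valL) = true := by decide +kernel

theorem okSum : D.okSum = true := by decide +kernel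

theorem ok_ord : okOrd D (nth valL) = true := by decide +kernel

theorem ok_one : okOne D = true := by decide +kernel

theorem ok_primes : okPrimes D PL = true := by decide +kernel

theorem ok_rows : okRows' D A B = true := by decide +kernel

theorem ok_all : (PL.all fun x => x.2.2.all fun t => hasC CL x.1 t) = true := by decide +kernel

theorem ok_certs : allL (fun y => chkP D y.1 y.2.1 (y.1 ^ y.2.1) seeds y.2.2 (A ++ B)) CL = true := by decide +kernel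

/-- the degrees -/
def degL : List ℕ := [1, 23, 253, 253, 275, 1771, 2024, 4025, 5544, 7084, 8855, 23000, 26082, 31625, 31625, 31625, 31878, 40250, 57960, 63250, 73600,
    80960, 91125, 93312, 129536, 129536, 177100, 184437, 221375, 226688, 246400, 249480, 253000, 255024, 896, 896, 3520, 3520, 9625, 9625, 20608,
    20608]

theorem deg_eq : (mkRows A B).deg = degL := by decide +kernel

/-- **the consequences of the table** -/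
theorem fin {G : Type*} [Group G] [Finite G] (h : Seeded G D seeds) :
    VAN.Van3 G ∧ OddRat G ∧ OddSig G ∧ DegList G degL := by
  obtain ⟨T, hm, hs⟩ := h
  obtain ⟨hI, hT⟩ := tab_of_virt hm ok_one (virt_of_certs hm.1 ok_primes hs (allL_spec ok_certs) ok_all) ok_rows
  refine ⟨hT.van3 hI hm.1 [(2, 10), (3, 7), (5, 3), (7, 1), (11, 1), (23, 1)] (by decide) 3 23 27 (by decide +kernel),
    hT.oddRat hI [34] (by decide +kernel) (by decide +kernel),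
    hT.oddSig hI [(34, 0, 23, 5)] (by decide +kernel) [] (fun _ h => by cases h) (by decide +kernel), ?_⟩
  rw [← deg_eq]
  exact hT.degList

end Cfsg.Agent.TAB.Co3
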